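import Cfsg.Agent.H8.RU.D.C0
import Cfsg.Agent.H8.RU.D.C1
import Cfsg.Agent.H8.RU.D.C2

/-! Generated by tools/h0/tr.py. -/

set_option maxRecDepth 100000
set_option maxHeartbeats 0

namespace H8.RU
open H16 H0.TR
open scoped commutatorElement

theorem md {G : Type*} [Group G] (e : gen H15.Ru.g 7 ≃* G) :
    ∃ (_ : MulAction G (Fin 4060)) (g : ℕ → G), Md g (ptF 4060) H15.Ru.P 4060 7 H15.Ru.B 145926144000 ∧
      ∀ k < 7, (e.symm (g k)).1 = H15.Ru.g k :=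
  exists_md H15.Ru.act (ptF_inj 4060) H15.Ru.card H15.Ru.isBase md_b e
theorem st_m_0 : ∀ i < 4060, (matEnt (wdsP H15.Ru.P st_W) st_P (nat_lit 0)) i = 0 := range_glue (allZ_sound0 st_m_0_0) st_m_0_1
theorem st_m_1 : ∀ i < 4060, (matEnt (wdsP H15.Ru.P st_W) st_P (nat_lit 1)) i = 0 := allZ_sound0 st_m_1_0
theorem st_m_2 : ∀ i < 4060, (matEnt (wdsP H15.Ru.P st_W) st_P (nat_lit 2)) i = 0 := allZ_sound0 st_m_2_0
theorem st_m_3 : ∀ i < 4060, (matEnt (wdsP H15.Ru.P st_W) st_P (nat_lit 3)) i = 0 := allZ_sound0 st_m_3_0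
theorem st_m_4 : ∀ i < 4060, (matEnt (wdsP H15.Ru.P st_W) st_P (nat_lit 4)) i = 0 := range_glue (allZ_sound0 st_m_4_0) st_m_4_1
theorem st_m_5 : ∀ i < 4060, (matEnt (wdsP H15.Ru.P st_W) st_P (nat_lit 5)) i = 0 := range_glue (allZ_sound0 st_m_5_0) st_m_5_1
theorem st_m_6 : ∀ i < 4060, (matEnt (wdsP H15.Ru.P st_W) st_P (nat_lit 6)) i = 0 := allZ_sound0 st_m_6_0
theorem st_m_7 : ∀ i < 4060, (matEnt (wdsP H15.Ru.P st_W) st_P (nat_lit 7)) i = 0 := range_glue (allZ_sound0 st_m_7_0) st_m_7_1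
theorem st_m_8 : ∀ i < 4060, (matEnt (wdsP H15.Ru.P st_W) st_P (nat_lit 8)) i = 0 := allZ_sound0 st_m_8_0
theorem st_m_9 : ∀ i < 4060, (matEnt (wdsP H15.Ru.P st_W) st_P (nat_lit 9)) i = 0 := allZ_sound0 st_m_9_0
theorem st_m_10 : ∀ i < 4060, (matEnt (wdsP H15.Ru.P st_W) st_P (nat_lit 10)) i = 0 := allZ_sound0 st_m_10_0
theorem st_m_11 : ∀ i < 4060, (matEnt (wdsP H15.Ru.P st_W) st_P (nat_lit 11)) i = 0 := allZ_sound0 st_m_11_0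
theorem st_m_12 : ∀ i < 4060, (matEnt (wdsP H15.Ru.P st_W) st_P (nat_lit 12)) i = 0 := allZ_sound0 st_m_12_0
theorem st_m_13 : ∀ i < 4060, (matEnt (wdsP H15.Ru.P st_W) st_P (nat_lit 13)) i = 0 := allZ_sound0 st_m_13_0
theorem st_m : ∀ k < 14, ∀ i < 4060, (matEnt (wdsP H15.Ru.P st_W) st_P) k i = 0 :=
  letters_glue (letters_glue (letters_glue (letters_glue (letters_glue (letters_glue (letters_glue (letters_glue (letters_glue (letters_glue (letters_glue (letters_glue (letters_glue (letters_glue (letters_nil) st_m_0) st_m_1) st_m_2) st_m_3) st_m_4) st_m_5) st_m_6) st_m_7) st_m_8) st_m_9) st_m_10) st_m_11) st_m_12) st_m_13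
theorem st_act {G Ω : Type*} [Group G] [MulAction G Ω] {g : ℕ → G} {pt : ℕ → Ω}
    (M : Md g pt H15.Ru.P 4060 7 H15.Ru.B 145926144000) : Act (wds g st_W) pt st_P 4060 14 :=
  act_mat (M.wact st_lt) st_m
theorem s_r : ∀ k < 14, ∀ i < 144, (resEnt st_P sP sE sI (nat_lit 4060) (nat_lit 144)) k i = 0 := allZ2_sound s_r_a
theorem s_sm {G Ω : Type*} [Group G] [MulAction G Ω] {g : ℕ → G} {pt : ℕ → Ω}
    (M : Md g pt H15.Ru.P 4060 7 H15.Ru.B 145926144000) : Sm (wds g st_W) (fun i => pt (sE i)) sP 144 14 sB ∧ ∀ i < 144, sE i < 4060 :=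
  M.res (st_act M) (by decide) s_r s_b
theorem sl0_e : ∀ i < 127, (dent sl0 (wdsP sP se) (nat_lit 144)) i = 0 := allZ_sound0 sl0_e_0
theorem sl0_ok : DOK sl0 (wdsP sP se) 144 := ⟨sl0_h, sl0_e⟩
theorem sl1_e : ∀ i < 31, (dent sl1 (wdsP sP se) (nat_lit 144)) i = 0 := allZ_sound0 sl1_e_0
theorem sl1_ok : DOK sl1 (wdsP sP se) 144 := ⟨sl1_h, sl1_e⟩
theorem sl2_e : ∀ i < 3, (dent sl2 (wdsP sP se) (nat_lit 144)) i = 0 := allZ_sound0 sl2_e_0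
theorem sl2_ok : DOK sl2 (wdsP sP se) 144 := ⟨sl2_h, sl2_e⟩
theorem s_low {G Ω : Type*} [Group G] [MulAction G Ω] {g : ℕ → G} {pt : ℕ → Ω}
    (M : Md g pt H15.Ru.P 4060 7 H15.Ru.B 145926144000) : SLow (gi (wds (wds g st_W) se)) (fun i => pt (sE i)) 144 [sl0, sl1, sl2] :=
  (((SLow.nil).cons sl2_ok ((s_sm M).1.act.wds s_e 13) s_f2).cons sl1_ok ((s_sm M).1.act.wds s_e 13) s_f1).cons sl0_ok ((s_sm M).1.act.wds s_e 13) s_f0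
theorem s_pc {G Ω : Type*} [Group G] [MulAction G Ω] {g : ℕ → G} {pt : ℕ → Ω}
    (M : Md g pt H15.Ru.P 4060 7 H15.Ru.B 145926144000) : PC (wds g st_W) 14 2 :=
  have := M.fin
  ((s_sm M).1.pc0 (by decide) s_p).pc (s_low M) (s_sm M).1.inj
    (fun k => evA_mem_gen _ (nth_lt s_e k)) M.card ⟨by decide, s_c⟩
theorem cvr_act {G Ω : Type*} [Group G] [MulAction G Ω] {g : ℕ → G} {pt : ℕ → Ω}
    (M : Md g pt H15.Ru.P 4060 7 H15.Ru.B 145926144000) : Act (wds g cvr_W) pt cvr_P 4060 6 :=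
  M.wact cvr_lt
theorem cv_0 {G Ω : Type*} [Group G] [MulAction G Ω] {g : ℕ → G} {pt : ℕ → Ω}
    (M : Md g pt H15.Ru.P 4060 7 H15.Ru.B 145926144000) : Cov (wds g st_W) (wds g cvr_W) 4 6 12 (evA (wds g st_W) []) :=
  have := M.fin
  cvT0.cov M (s_sm M).1 (s_sm M).2 (cvr_act M) (s_pc M) _ _ cv_c0
theorem cv_1 {G Ω : Type*} [Group G] [MulAction G Ω] {g : ℕ → G} {pt : ℕ → Ω}
    (M : Md g pt H15.Ru.P 4060 7 H15.Ru.B 145926144000) : Cov (wds g st_W) (wds g cvr_W) 4 6 12 (evA (wds g st_W) [nat_lit 12]) :=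
  have := M.fin
  cvT1.cov M (s_sm M).1 (s_sm M).2 (cvr_act M) (s_pc M) _ _ cv_c1
theorem cv_2 {G Ω : Type*} [Group G] [MulAction G Ω] {g : ℕ → G} {pt : ℕ → Ω}
    (M : Md g pt H15.Ru.P 4060 7 H15.Ru.B 145926144000) : Cov (wds g st_W) (wds g cvr_W) 4 6 12 (evA (wds g st_W) [nat_lit 13]) :=
  have := M.fin
  cvT2.cov M (s_sm M).1 (s_sm M).2 (cvr_act M) (s_pc M) _ _ cv_c2
theorem cv_3 {G Ω : Type*} [Group G] [MulAction G Ω] {g : ℕ → G} {pt : ℕ → Ω}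
    (M : Md g pt H15.Ru.P 4060 7 H15.Ru.B 145926144000) : Cov (wds g st_W) (wds g cvr_W) 4 6 12 (evA (wds g st_W) [nat_lit 12, nat_lit 13]) :=
  have := M.fin
  cvT3.cov M (s_sm M).1 (s_sm M).2 (cvr_act M) (s_pc M) _ _ cv_c3
theorem cv {G Ω : Type*} [Group G] [MulAction G Ω] {g : ℕ → G} {pt : ℕ → Ω}
    (M : Md g pt H15.Ru.P 4060 7 H15.Ru.B 145926144000) {y : G} {e : ℕ} (hy : y ^ 2 ^ e = 1) (hq : y ^ 4 = 1) : Good (wds g cvr_W) 6 y :=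
  have := M.fin
  Cov.all (s_pc M) (Cov.split (s_pc M) (by decide) (fun j hj => match j, hj with | 0, _ => Cov.split (s_pc M) (by decide) (fun j hj => match j, hj with | 0, _ => cv_0 M | 1, _ => cv_1 M) | 1, _ => Cov.split (s_pc M) (by decide) (fun j hj => match j, hj with | 0, _ => cv_2 M | 1, _ => cv_3 M))) hy hq
theorem y_act {G Ω : Type*} [Group G] [MulAction G Ω] {g : ℕ → G} {pt : ℕ → Ω}
    (M : Md g pt H15.Ru.P 4060 7 H15.Ru.B 145926144000) : Act (wds g y_W) pt y_P 4060 3 :=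
  M.wact y_lt
theorem x_m_0 : ∀ i < 4060, (matEnt (wdsP H15.Ru.P x_W) x_P (nat_lit 0)) i = 0 := range_glue (allZ_sound0 x_m_0_0) x_m_0_1
theorem x_m_1 : ∀ i < 4060, (matEnt (wdsP H15.Ru.P x_W) x_P (nat_lit 1)) i = 0 := range_glue (allZ_sound0 x_m_1_0) x_m_1_1
theorem x_m_2 : ∀ i < 4060, (matEnt (wdsP H15.Ru.P x_W) x_P (nat_lit 2)) i = 0 := range_glue (allZ_sound0 x_m_2_0) x_m_2_1
theorem x_m : ∀ k < 3, ∀ i < 4060, (matEnt (wdsP H15.Ru.P x_W) x_P) k i = 0 :=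
  letters_glue (letters_glue (letters_glue (letters_nil) x_m_0) x_m_1) x_m_2
theorem x_act {G Ω : Type*} [Group G] [MulAction G Ω] {g : ℕ → G} {pt : ℕ → Ω}
    (M : Md g pt H15.Ru.P 4060 7 H15.Ru.B 145926144000) : Act (wds g x_W) pt x_P 4060 3 :=
  act_mat (M.wact x_lt) x_m
theorem yle {G Ω : Type*} [Group G] [MulAction G Ω] {g : ℕ → G} {pt : ℕ → Ω}
    (M : Md g pt H15.Ru.P 4060 7 H15.Ru.B 145926144000) : gen (wds g y_W) 3 ≤ gen (wds g st_W) 14 :=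
  M.gen_le (st_act M) (y_act M) yle_k
theorem xth_act {G Ω : Type*} [Group G] [MulAction G Ω] {g : ℕ → G} {pt : ℕ → Ω}
    (M : Md g pt H15.Ru.P 4060 7 H15.Ru.B 145926144000) : Act (wds g xth_W) pt xth_P 4060 16 :=
  M.wact xth_lt
theorem xtl0_e : ∀ i < 4059, (dent xtl0 xth_P (nat_lit 4060)) i = 0 := allZ_sound0 xtl0_e_0
theorem xtl0_ok : DOK xtl0 xth_P 4060 := ⟨xtl0_h, xtl0_e⟩
theorem xtl1_e : ∀ i < 1754, (dent xtl1 xth_P (nat_lit 4060)) i = 0 := allZ_sound0 xtl1_e_0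
theorem xtl1_ok : DOK xtl1 xth_P 4060 := ⟨xtl1_h, xtl1_e⟩
theorem xtl2_e : ∀ i < 9, (dent xtl2 xth_P (nat_lit 4060)) i = 0 := allZ_sound0 xtl2_e_0
theorem xtl2_ok : DOK xtl2 xth_P 4060 := ⟨xtl2_h, xtl2_e⟩
theorem xtl3_e : ∀ i < 63, (dent xtl3 xth_P (nat_lit 4060)) i = 0 := allZ_sound0 xtl3_e_0
theorem xtl3_ok : DOK xtl3 xth_P 4060 := ⟨xtl3_h, xtl3_e⟩
theorem xtl4_e : ∀ i < 31, (dent xtl4 xth_P (nat_lit 4060)) i = 0 := allZ_sound0 xtl4_e_0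
theorem xtl4_ok : DOK xtl4 xth_P 4060 := ⟨xtl4_h, xtl4_e⟩
theorem xt_low {G Ω : Type*} [Group G] [MulAction G Ω] {g : ℕ → G} {pt : ℕ → Ω}
    (M : Md g pt H15.Ru.P 4060 7 H15.Ru.B 145926144000) : SLow (gi (wds g xth_W)) pt 4060 [xtl0, xtl1, xtl2, xtl3, xtl4] :=
  (((((SLow.nil).cons xtl4_ok (xth_act M) xt_f4).cons xtl3_ok (xth_act M) xt_f3).cons xtl2_ok (xth_act M) xt_f2).cons xtl1_ok (xth_act M) xt_f1).cons xtl0_ok (xth_act M) xt_f0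
theorem xt_S0 {G Ω : Type*} [Group G] [MulAction G Ω] {g : ℕ → G} {pt : ℕ → Ω}
    (M : Md g pt H15.Ru.P 4060 7 H15.Ru.B 145926144000) : Stage ⊤ (wds g xth_W) pt 4060 [xtl0, xtl1, xtl2, xtl3, xtl4] [] :=
  M.stage (xt_low M) xt_c
theorem xt_S1 {G Ω : Type*} [Group G] [MulAction G Ω] {g : ℕ → G} {pt : ℕ → Ω}
    (M : Md g pt H15.Ru.P 4060 7 H15.Ru.B 145926144000) : Stage ⊤ (wds g xth_W) pt 4060 [xtl1, xtl2, xtl3, xtl4] [xtl0.Pt 0] :=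
  (xt_S0 M).next
theorem xt_S2 {G Ω : Type*} [Group G] [MulAction G Ω] {g : ℕ → G} {pt : ℕ → Ω}
    (M : Md g pt H15.Ru.P 4060 7 H15.Ru.B 145926144000) : Stage ⊤ (wds g xth_W) pt 4060 [xtl2, xtl3, xtl4] [xtl1.Pt 0, xtl0.Pt 0] :=
  (xt_S1 M).next
theorem xt_S3 {G Ω : Type*} [Group G] [MulAction G Ω] {g : ℕ → G} {pt : ℕ → Ω}
    (M : Md g pt H15.Ru.P 4060 7 H15.Ru.B 145926144000) : Stage ⊤ (wds g xth_W) pt 4060 [xtl3, xtl4] [xtl2.Pt 0, xtl1.Pt 0, xtl0.Pt 0] :=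
  (xt_S2 M).next
theorem xt_S4 {G Ω : Type*} [Group G] [MulAction G Ω] {g : ℕ → G} {pt : ℕ → Ω}
    (M : Md g pt H15.Ru.P 4060 7 H15.Ru.B 145926144000) : Stage ⊤ (wds g xth_W) pt 4060 [xtl4] [xtl3.Pt 0, xtl2.Pt 0, xtl1.Pt 0, xtl0.Pt 0] :=
  (xt_S3 M).next
theorem xt_S5 {G Ω : Type*} [Group G] [MulAction G Ω] {g : ℕ → G} {pt : ℕ → Ω}
    (M : Md g pt H15.Ru.P 4060 7 H15.Ru.B 145926144000) : Stage ⊤ (wds g xth_W) pt 4060 [] [xtl4.Pt 0, xtl3.Pt 0, xtl2.Pt 0, xtl1.Pt 0, xtl0.Pt 0] :=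
  (xt_S4 M).next
theorem xce_act {G Ω : Type*} [Group G] [MulAction G Ω] {g : ℕ → G} {pt : ℕ → Ω}
    (M : Md g pt H15.Ru.P 4060 7 H15.Ru.B 145926144000) : Act (wds g xce_W) pt xce_P 4060 2 :=
  M.wact xce_lt
theorem xcc0_e : ∀ i < 3, (dent xcc0 xce_P (nat_lit 4060)) i = 0 := allZ_sound0 xcc0_e_0
theorem xcc0_ok : DOK xcc0 xce_P 4060 := ⟨xcc0_h, xcc0_e⟩
theorem xtn0_1 : ∀ i < 4060, (xtn0.ent H15.Ru.P xth_P x_P x_P xce_P (nat_lit 7) (nat_lit 3) H15.Ru.B xtl0 [xtl1, xtl2, xtl3, xtl4] (memO xcc0)) i = 0 := allZ_sound0 xtn0_1_0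
theorem xtn0_t {G Ω : Type*} [Group G] [MulAction G Ω] {g : ℕ → G} {pt : ℕ → Ω}
    (M : Md g pt H15.Ru.P 4060 7 H15.Ru.B 145926144000) : TrO (gen (wds g xth_W) xtl0.K) (wds g x_W) (wds g x_W) 3 pt 4060 (xtl0.Pt 0) (memO xcc0) :=
  node M (xt_S0 M) (xth_act M) (x_act M) (x_act M) xtn0 ((xce_act M).mono (by decide)) (fun _ _ => trivial) xtn0_0 xtn0_1 (List.forall_mem_nil _)
theorem xc {G Ω : Type*} [Group G] [MulAction G Ω] {g : ℕ → G} {pt : ℕ → Ω}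
    (M : Md g pt H15.Ru.P 4060 7 H15.Ru.B 145926144000) : Cen ⊤ (wds g x_W) 3 (wds g xce_W) pt 4060 [xcc0] :=
  (xt_S0 M).top ▸ Cen.lev M (xt_S0 M) (Cen.triv (xt_S1 M) (Cen.triv (xt_S2 M) (Cen.triv (xt_S3 M) (Cen.triv (xt_S4 M) (Cen.bot) (forced (xt_S4 M) (xth_act M) (x_act M) _ _ xc_f4)) (forced (xt_S3 M) (xth_act M) (x_act M) _ _ xc_f3)) (forced (xt_S2 M) (xth_act M) (x_act M) _ _ xc_f2)) (forced (xt_S1 M) (xth_act M) (x_act M) _ _ xc_f1)) (xtn0_t M) (x_act M) (xce_act M) (fun _ _ => trivial) xcc0_ok xc_f0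
theorem xc_eq {G Ω : Type*} [Group G] [MulAction G Ω] {g : ℕ → G} {pt : ℕ → Ω}
    (M : Md g pt H15.Ru.P 4060 7 H15.Ru.B 145926144000) : Subgroup.centralizer (gen (wds g x_W) 3) = gen (wds g xce_W) 2 ∧ Nat.card (gen (wds g xce_W) 2) = 4 :=
  xc_c.1 ▸ xc_c.2 ▸ ⟨(xc M).cent, (xc M).card M.inj⟩
theorem e00 {G Ω : Type*} [Group G] [MulAction G Ω] {g : ℕ → G} {pt : ℕ → Ω}
    (M : Md g pt H15.Ru.P 4060 7 H15.Ru.B 145926144000) : evA (wds g xce_W) [0, 0] = evA (wds g xce_W) [] :=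
  M.eq_of (xce_act M) e00_k
theorem e11 {G Ω : Type*} [Group G] [MulAction G Ω] {g : ℕ → G} {pt : ℕ → Ω}
    (M : Md g pt H15.Ru.P 4060 7 H15.Ru.B 145926144000) : evA (wds g xce_W) [1, 1] = evA (wds g xce_W) [] :=
  M.eq_of (xce_act M) e11_k
theorem e01 {G Ω : Type*} [Group G] [MulAction G Ω] {g : ℕ → G} {pt : ℕ → Ω}
    (M : Md g pt H15.Ru.P 4060 7 H15.Ru.B 145926144000) : evA (wds g xce_W) [0, 1] = evA (wds g xce_W) [1, 0] :=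
  M.eq_of (xce_act M) e01_k
theorem c1x_act {G Ω : Type*} [Group G] [MulAction G Ω] {g : ℕ → G} {pt : ℕ → Ω}
    (M : Md g pt H15.Ru.P 4060 7 H15.Ru.B 145926144000) : Act (wds g c1x_W) pt c1x_P 4060 1 :=
  M.wact c1x_lt
theorem c1th_act {G Ω : Type*} [Group G] [MulAction G Ω] {g : ℕ → G} {pt : ℕ → Ω}
    (M : Md g pt H15.Ru.P 4060 7 H15.Ru.B 145926144000) : Act (wds g c1th_W) pt c1th_P 4060 16 :=
  M.wact c1th_lt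
theorem c1tl0_e : ∀ i < 4059, (dent c1tl0 c1th_P (nat_lit 4060)) i = 0 := allZ_sound0 c1tl0_e_0
theorem c1tl0_ok : DOK c1tl0 c1th_P 4060 := ⟨c1tl0_h, c1tl0_e⟩
theorem c1tl1_e : ∀ i < 2303, (dent c1tl1 c1th_P (nat_lit 4060)) i = 0 := allZ_sound0 c1tl1_e_0
theorem c1tl1_ok : DOK c1tl1 c1th_P 4060 := ⟨c1tl1_h, c1tl1_e⟩
theorem c1tl2_e : ∀ i < 77, (dent c1tl2 c1th_P (nat_lit 4060)) i = 0 := allZ_sound0 c1tl2_e_0
theorem c1tl2_ok : DOK c1tl2 c1th_P 4060 := ⟨c1tl2_h, c1tl2_e⟩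
theorem c1tl3_e : ∀ i < 49, (dent c1tl3 c1th_P (nat_lit 4060)) i = 0 := allZ_sound0 c1tl3_e_0
theorem c1tl3_ok : DOK c1tl3 c1th_P 4060 := ⟨c1tl3_h, c1tl3_e⟩
theorem c1tl4_e : ∀ i < 1, (dent c1tl4 c1th_P (nat_lit 4060)) i = 0 := allZ_sound0 c1tl4_e_0
theorem c1tl4_ok : DOK c1tl4 c1th_P 4060 := ⟨c1tl4_h, c1tl4_e⟩
theorem c1tl5_e : ∀ i < 1, (dent c1tl5 c1th_P (nat_lit 4060)) i = 0 := allZ_sound0 c1tl5_e_0
theorem c1tl5_ok : DOK c1tl5 c1th_P 4060 := ⟨c1tl5_h, c1tl5_e⟩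
theorem c1t_low {G Ω : Type*} [Group G] [MulAction G Ω] {g : ℕ → G} {pt : ℕ → Ω}
    (M : Md g pt H15.Ru.P 4060 7 H15.Ru.B 145926144000) : SLow (gi (wds g c1th_W)) pt 4060 [c1tl0, c1tl1, c1tl2, c1tl3, c1tl4, c1tl5] :=
  ((((((SLow.nil).cons c1tl5_ok (c1th_act M) c1t_f5).cons c1tl4_ok (c1th_act M) c1t_f4).cons c1tl3_ok (c1th_act M) c1t_f3).cons c1tl2_ok (c1th_act M) c1t_f2).cons c1tl1_ok (c1th_act M) c1t_f1).cons c1tl0_ok (c1th_act M) c1t_f0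
theorem c1t_S0 {G Ω : Type*} [Group G] [MulAction G Ω] {g : ℕ → G} {pt : ℕ → Ω}
    (M : Md g pt H15.Ru.P 4060 7 H15.Ru.B 145926144000) : Stage ⊤ (wds g c1th_W) pt 4060 [c1tl0, c1tl1, c1tl2, c1tl3, c1tl4, c1tl5] [] :=
  M.stage (c1t_low M) c1t_c
theorem c1t_S1 {G Ω : Type*} [Group G] [MulAction G Ω] {g : ℕ → G} {pt : ℕ → Ω}
    (M : Md g pt H15.Ru.P 4060 7 H15.Ru.B 145926144000) : Stage ⊤ (wds g c1th_W) pt 4060 [c1tl1, c1tl2, c1tl3, c1tl4, c1tl5] [c1tl0.Pt 0] :=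
  (c1t_S0 M).next
theorem c1t_S2 {G Ω : Type*} [Group G] [MulAction G Ω] {g : ℕ → G} {pt : ℕ → Ω}
    (M : Md g pt H15.Ru.P 4060 7 H15.Ru.B 145926144000) : Stage ⊤ (wds g c1th_W) pt 4060 [c1tl2, c1tl3, c1tl4, c1tl5] [c1tl1.Pt 0, c1tl0.Pt 0] :=
  (c1t_S1 M).next
theorem c1t_S3 {G Ω : Type*} [Group G] [MulAction G Ω] {g : ℕ → G} {pt : ℕ → Ω}
    (M : Md g pt H15.Ru.P 4060 7 H15.Ru.B 145926144000) : Stage ⊤ (wds g c1th_W) pt 4060 [c1tl3, c1tl4, c1tl5] [c1tl2.Pt 0, c1tl1.Pt 0, c1tl0.Pt 0] :=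
  (c1t_S2 M).next
theorem c1t_S4 {G Ω : Type*} [Group G] [MulAction G Ω] {g : ℕ → G} {pt : ℕ → Ω}
    (M : Md g pt H15.Ru.P 4060 7 H15.Ru.B 145926144000) : Stage ⊤ (wds g c1th_W) pt 4060 [c1tl4, c1tl5] [c1tl3.Pt 0, c1tl2.Pt 0, c1tl1.Pt 0, c1tl0.Pt 0] :=
  (c1t_S3 M).next
theorem c1t_S5 {G Ω : Type*} [Group G] [MulAction G Ω] {g : ℕ → G} {pt : ℕ → Ω}
    (M : Md g pt H15.Ru.P 4060 7 H15.Ru.B 145926144000) : Stage ⊤ (wds g c1th_W) pt 4060 [c1tl5] [c1tl4.Pt 0, c1tl3.Pt 0, c1tl2.Pt 0, c1tl1.Pt 0, c1tl0.Pt 0] :=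
  (c1t_S4 M).next
theorem c1t_S6 {G Ω : Type*} [Group G] [MulAction G Ω] {g : ℕ → G} {pt : ℕ → Ω}
    (M : Md g pt H15.Ru.P 4060 7 H15.Ru.B 145926144000) : Stage ⊤ (wds g c1th_W) pt 4060 [] [c1tl5.Pt 0, c1tl4.Pt 0, c1tl3.Pt 0, c1tl2.Pt 0, c1tl1.Pt 0, c1tl0.Pt 0] :=
  (c1t_S5 M).next
theorem c1ce_act {G Ω : Type*} [Group G] [MulAction G Ω] {g : ℕ → G} {pt : ℕ → Ω}
    (M : Md g pt H15.Ru.P 4060 7 H15.Ru.B 145926144000) : Act (wds g c1ce_W) pt c1ce_P 4060 6 :=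
  M.wact c1ce_lt
theorem c1cc5_e : ∀ i < 1, (dent c1cc5 c1ce_P (nat_lit 4060)) i = 0 := allZ_sound0 c1cc5_e_0
theorem c1cc5_ok : DOK c1cc5 c1ce_P 4060 := ⟨c1cc5_h, c1cc5_e⟩
theorem c1tn0_1 : ∀ i < 2, (c1tn0.ent H15.Ru.P c1th_P c1x_P c1x_P c1ce_P (nat_lit 7) (nat_lit 1) H15.Ru.B c1tl5 [] (memO c1cc5)) i = 0 := allZ_sound0 c1tn0_1_0
theorem c1tn0_t {G Ω : Type*} [Group G] [MulAction G Ω] {g : ℕ → G} {pt : ℕ → Ω}
    (M : Md g pt H15.Ru.P 4060 7 H15.Ru.B 145926144000) : TrO (gen (wds g c1th_W) c1tl5.K) (wds g c1x_W) (wds g c1x_W) 1 pt 4060 (c1tl5.Pt 0) (memO c1cc5) :=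
  node M (c1t_S5 M) (c1th_act M) (c1x_act M) (c1x_act M) c1tn0 ((c1ce_act M).mono (by decide)) (fun _ _ => trivial) c1tn0_0 c1tn0_1 (List.forall_mem_nil _)
theorem c1tn1y1089_act {G Ω : Type*} [Group G] [MulAction G Ω] {g : ℕ → G} {pt : ℕ → Ω}
    (M : Md g pt H15.Ru.P 4060 7 H15.Ru.B 145926144000) : Act (wds g c1tn1y1089_W) pt c1tn1y1089_P 4060 1 :=
  M.wact c1tn1y1089_lt
theorem c1tr2k_act {G Ω : Type*} [Group G] [MulAction G Ω] {g : ℕ → G} {pt : ℕ → Ω}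
    (M : Md g pt H15.Ru.P 4060 7 H15.Ru.B 145926144000) : Act (wds g c1tr2k_W) pt c1tr2k_P 4060 2 :=
  M.wact c1tr2k_lt
theorem c1tn2_1 : ∀ i < 2, (c1tn2.ent H15.Ru.P c1th_P c1x_P c1tn1y1089_P c1tr2k_P (nat_lit 7) (nat_lit 1) H15.Ru.B c1tl5 [] (fun _ => nat_lit 1)) i = 0 := allZ_sound0 c1tn2_1_0
theorem c1tn2_t {G Ω : Type*} [Group G] [MulAction G Ω] {g : ℕ → G} {pt : ℕ → Ω}
    (M : Md g pt H15.Ru.P 4060 7 H15.Ru.B 145926144000) : TrO (gen (wds g c1th_W) c1tl5.K) (wds g c1x_W) (wds g c1tn1y1089_W) 1 pt 4060 (c1tl5.Pt 0) (fun _ => nat_lit 1) :=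
  node M (c1t_S5 M) (c1th_act M) (c1x_act M) (c1tn1y1089_act M) c1tn2 ((c1tr2k_act M).mono (by decide)) (fun _ _ => trivial) c1tn2_0 c1tn2_1 (List.forall_mem_nil _)
theorem c1tr2 {G Ω : Type*} [Group G] [MulAction G Ω] {g : ℕ → G} {pt : ℕ → Ω}
    (M : Md g pt H15.Ru.P 4060 7 H15.Ru.B 145926144000) : Ref (gen (wds g c1th_W) (topK [c1tl5])) (wds g c1x_W) (wds g c1tn1y1089_W) 1 :=
  (c1tn2_t M).ref
theorem c1tn1_1 : ∀ i < 2, (c1tn1.ent H15.Ru.P c1th_P c1x_P c1x_P c1ce_P (nat_lit 7) (nat_lit 1) H15.Ru.B c1tl4 [c1tl5] (fun w => Nat.xor w (c1tl4.Pt (nat_lit 0)))) i = 0 := allZ_sound0 c1tn1_1_0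
theorem c1tn1_t {G Ω : Type*} [Group G] [MulAction G Ω] {g : ℕ → G} {pt : ℕ → Ω}
    (M : Md g pt H15.Ru.P 4060 7 H15.Ru.B 145926144000) : TrO (gen (wds g c1th_W) c1tl4.K) (wds g c1x_W) (wds g c1x_W) 1 pt 4060 (c1tl4.Pt 0) (fun w => Nat.xor w (c1tl4.Pt (nat_lit 0))) :=
  node M (c1t_S4 M) (c1th_act M) (c1x_act M) (c1x_act M) c1tn1 ((c1ce_act M).mono (by decide)) (fun _ _ => trivial) c1tn1_0 c1tn1_1 (List.forall_mem_cons.2 ⟨c1tr2 M, List.forall_mem_nil _⟩)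
theorem c1cc2_e : ∀ i < 25, (dent c1cc2 c1ce_P (nat_lit 4060)) i = 0 := allZ_sound0 c1cc2_e_0
theorem c1cc2_ok : DOK c1cc2 c1ce_P 4060 := ⟨c1cc2_h, c1cc2_e⟩
theorem c1tn3y1609_act {G Ω : Type*} [Group G] [MulAction G Ω] {g : ℕ → G} {pt : ℕ → Ω}
    (M : Md g pt H15.Ru.P 4060 7 H15.Ru.B 145926144000) : Act (wds g c1tn3y1609_W) pt c1tn3y1609_P 4060 1 :=
  M.wact c1tn3y1609_lt
theorem c1tr4k_act {G Ω : Type*} [Group G] [MulAction G Ω] {g : ℕ → G} {pt : ℕ → Ω}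
    (M : Md g pt H15.Ru.P 4060 7 H15.Ru.B 145926144000) : Act (wds g c1tr4k_W) pt c1tr4k_P 4060 2 :=
  M.wact c1tr4k_lt
theorem c1tn4_1 : ∀ i < 2, (c1tn4.ent H15.Ru.P c1th_P c1x_P c1tn3y1609_P c1tr4k_P (nat_lit 7) (nat_lit 1) H15.Ru.B c1tl4 [c1tl5] (fun _ => nat_lit 1)) i = 0 := allZ_sound0 c1tn4_1_0
theorem c1tn4_t {G Ω : Type*} [Group G] [MulAction G Ω] {g : ℕ → G} {pt : ℕ → Ω}
    (M : Md g pt H15.Ru.P 4060 7 H15.Ru.B 145926144000) : TrO (gen (wds g c1th_W) c1tl4.K) (wds g c1x_W) (wds g c1tn3y1609_W) 1 pt 4060 (c1tl4.Pt 0) (fun _ => nat_lit 1) :=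
  node M (c1t_S4 M) (c1th_act M) (c1x_act M) (c1tn3y1609_act M) c1tn4 ((c1tr4k_act M).mono (by decide)) (fun _ _ => trivial) c1tn4_0 c1tn4_1 (List.forall_mem_nil _)
theorem c1tr4 {G Ω : Type*} [Group G] [MulAction G Ω] {g : ℕ → G} {pt : ℕ → Ω}
    (M : Md g pt H15.Ru.P 4060 7 H15.Ru.B 145926144000) : Ref (gen (wds g c1th_W) (topK [c1tl4, c1tl5])) (wds g c1x_W) (wds g c1tn3y1609_W) 1 :=
  (c1tn4_t M).ref
theorem c1tn3_1 : ∀ i < 78, (c1tn3.ent H15.Ru.P c1th_P c1x_P c1x_P c1ce_P (nat_lit 7) (nat_lit 1) H15.Ru.B c1tl2 [c1tl3, c1tl4, c1tl5] (memO c1cc2)) i = 0 := allZ_sound0 c1tn3_1_0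
theorem c1tn3_t {G Ω : Type*} [Group G] [MulAction G Ω] {g : ℕ → G} {pt : ℕ → Ω}
    (M : Md g pt H15.Ru.P 4060 7 H15.Ru.B 145926144000) : TrO (gen (wds g c1th_W) c1tl2.K) (wds g c1x_W) (wds g c1x_W) 1 pt 4060 (c1tl2.Pt 0) (memO c1cc2) :=
  node M (c1t_S2 M) (c1th_act M) (c1x_act M) (c1x_act M) c1tn3 ((c1ce_act M).mono (by decide)) (fun _ _ => trivial) c1tn3_0 c1tn3_1 (List.forall_mem_cons.2 ⟨c1tr4 M, List.forall_mem_nil _⟩)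
theorem c1cc0_e : ∀ i < 2239, (dent c1cc0 c1ce_P (nat_lit 4060)) i = 0 := allZ_sound0 c1cc0_e_0
theorem c1cc0_ok : DOK c1cc0 c1ce_P 4060 := ⟨c1cc0_h, c1cc0_e⟩
theorem c1tn5_1 : ∀ i < 4060, (c1tn5.ent H15.Ru.P c1th_P c1x_P c1x_P c1ce_P (nat_lit 7) (nat_lit 1) H15.Ru.B c1tl0 [c1tl1, c1tl2, c1tl3, c1tl4, c1tl5] (memO c1cc0)) i = 0 := allZ_sound0 c1tn5_1_0
theorem c1tn5_t {G Ω : Type*} [Group G] [MulAction G Ω] {g : ℕ → G} {pt : ℕ → Ω}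
    (M : Md g pt H15.Ru.P 4060 7 H15.Ru.B 145926144000) : TrO (gen (wds g c1th_W) c1tl0.K) (wds g c1x_W) (wds g c1x_W) 1 pt 4060 (c1tl0.Pt 0) (memO c1cc0) :=
  node M (c1t_S0 M) (c1th_act M) (c1x_act M) (c1x_act M) c1tn5 ((c1ce_act M).mono (by decide)) (fun _ _ => trivial) c1tn5_0 c1tn5_1 (List.forall_mem_nil _)
theorem c1c {G Ω : Type*} [Group G] [MulAction G Ω] {g : ℕ → G} {pt : ℕ → Ω}
    (M : Md g pt H15.Ru.P 4060 7 H15.Ru.B 145926144000) : Cen ⊤ (wds g c1x_W) 1 (wds g c1ce_W) pt 4060 [c1cc0, c1cc2, c1cc5] :=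
  (c1t_S0 M).top ▸ Cen.lev M (c1t_S0 M) (Cen.triv (c1t_S1 M) (Cen.lev M (c1t_S2 M) (Cen.triv (c1t_S3 M) (Cen.triv (c1t_S4 M) (Cen.lev M (c1t_S5 M) (Cen.bot) (c1tn0_t M) (c1x_act M) (c1ce_act M) (fun _ _ => trivial) c1cc5_ok c1c_f5) (c1tn1_t M)) (forced (c1t_S3 M) (c1th_act M) (c1x_act M) _ _ c1c_f3)) (c1tn3_t M) (c1x_act M) (c1ce_act M) (fun _ _ => trivial) c1cc2_ok c1c_f2) (forced (c1t_S1 M) (c1th_act M) (c1x_act M) _ _ c1c_f1)) (c1tn5_t M) (c1x_act M) (c1ce_act M) (fun _ _ => trivial) c1cc0_ok c1c_f0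
theorem c1c_card {G Ω : Type*} [Group G] [MulAction G Ω] {g : ℕ → G} {pt : ℕ → Ω}
    (M : Md g pt H15.Ru.P 4060 7 H15.Ru.B 145926144000) : Nat.card (Subgroup.centralizer {(wds g c1x_W) 0}) = 116480 :=
  (c1c M).card_cent1 M.inj c1c_c.1
theorem c1c_eq {G Ω : Type*} [Group G] [MulAction G Ω] {g : ℕ → G} {pt : ℕ → Ω}
    (M : Md g pt H15.Ru.P 4060 7 H15.Ru.B 145926144000) : Subgroup.centralizer (gen (wds g c1x_W) 1) = gen (wds g c1ce_W) 6 ∧ Nat.card (gen (wds g c1ce_W) 6) = 116480 :=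
  c1c_c.1 ▸ c1c_c.2 ▸ ⟨(c1c M).cent, (c1c M).card M.inj⟩
theorem c1 {G Ω : Type*} [Group G] [MulAction G Ω] {g : ℕ → G} {pt : ℕ → Ω}
    (M : Md g pt H15.Ru.P 4060 7 H15.Ru.B 145926144000) : Nat.card (Subgroup.centralizer {(wds g cvr_W) 1}) = 116480 :=
  c1c_card M
theorem ua_act {G Ω : Type*} [Group G] [MulAction G Ω] {g : ℕ → G} {pt : ℕ → Ω}
    (M : Md g pt H15.Ru.P 4060 7 H15.Ru.B 145926144000) : Act (wds g ua_W) pt ua_P 4060 6 :=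
  M.wact ua_lt
theorem ual0_e : ∀ i < 63, (dent ual0 ua_P (nat_lit 4060)) i = 0 := allZ_sound0 ual0_e_0
theorem ual0_ok : DOK ual0 ua_P 4060 := ⟨ual0_h, ual0_e⟩
theorem ual1_e : ∀ i < 7, (dent ual1 ua_P (nat_lit 4060)) i = 0 := allZ_sound0 ual1_e_0
theorem ual1_ok : DOK ual1 ua_P 4060 := ⟨ual1_h, ual1_e⟩
theorem ua_low {G Ω : Type*} [Group G] [MulAction G Ω] {g : ℕ → G} {pt : ℕ → Ω}
    (M : Md g pt H15.Ru.P 4060 7 H15.Ru.B 145926144000) : SLow (gi (wds g ua_W)) pt 4060 [ual0, ual1] :=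
  ((SLow.nil).cons ual1_ok (ua_act M) ua_f1).cons ual0_ok (ua_act M) ua_f0
theorem ua_card {G Ω : Type*} [Group G] [MulAction G Ω] {g : ℕ → G} {pt : ℕ → Ω}
    (M : Md g pt H15.Ru.P 4060 7 H15.Ru.B 145926144000) : 512 ≤ Nat.card (gen (wds g ua_W) 6) :=
  by
    have := M.fin
    have := (ua_low M).card_ge M.inj
    rwa [ua_c.1, ua_c.2, gen_gi] at this
theorem ule {G Ω : Type*} [Group G] [MulAction G Ω] {g : ℕ → G} {pt : ℕ → Ω}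
    (M : Md g pt H15.Ru.P 4060 7 H15.Ru.B 145926144000) : gen (wds g ua_W) 6 ≤ gen (wds g st_W) 14 :=
  M.gen_le (st_act M) (ua_act M) ule_k
theorem ud_act {G Ω : Type*} [Group G] [MulAction G Ω] {g : ℕ → G} {pt : ℕ → Ω}
    (M : Md g pt H15.Ru.P 4060 7 H15.Ru.B 145926144000) : Act (wds g ud_W) pt ud_P 4060 5 :=
  M.wact ud_lt
theorem udl0_e : ∀ i < 63, (dent udl0 ud_P (nat_lit 4060)) i = 0 := allZ_sound0 udl0_e_0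
theorem udl0_ok : DOK udl0 ud_P 4060 := ⟨udl0_h, udl0_e⟩
theorem udl1_e : ∀ i < 7, (dent udl1 ud_P (nat_lit 4060)) i = 0 := allZ_sound0 udl1_e_0
theorem udl1_ok : DOK udl1 ud_P 4060 := ⟨udl1_h, udl1_e⟩
theorem ud_low {G Ω : Type*} [Group G] [MulAction G Ω] {g : ℕ → G} {pt : ℕ → Ω}
    (M : Md g pt H15.Ru.P 4060 7 H15.Ru.B 145926144000) : SLow (gi (wds g ud_W)) pt 4060 [udl0, udl1] :=
  ((SLow.nil).cons udl1_ok (ud_act M) ud_f1).cons udl0_ok (ud_act M) ud_f0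
theorem ud_card {G Ω : Type*} [Group G] [MulAction G Ω] {g : ℕ → G} {pt : ℕ → Ω}
    (M : Md g pt H15.Ru.P 4060 7 H15.Ru.B 145926144000) : 512 ≤ Nat.card (gen (wds g ud_W) 5) :=
  by
    have := M.fin
    have := (ud_low M).card_ge M.inj
    rwa [ud_c.1, ud_c.2, gen_gi] at this
theorem vle {G Ω : Type*} [Group G] [MulAction G Ω] {g : ℕ → G} {pt : ℕ → Ω}
    (M : Md g pt H15.Ru.P 4060 7 H15.Ru.B 145926144000) : gen (wds g ud_W) 5 ≤ gen (wds g st_W) 14 :=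
  M.gen_le (st_act M) (ud_act M) vle_k

end H8.RU
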